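import Cfsg.Agent.ThreeTransposition.UnitaryRadical.Generation

/-!
# An element of order three attached to a norm one vector in dimension five

The map `x ↦ ω x + h(x,v) v` is, for every isotropic `c` not orthogonal to `v`, the product of the
transvections at `c` and its image with a product of transvections fixing `c`.
-/

set_option autoImplicit false
set_option linter.unusedSectionVars false

namespace Cfsg.Lib.TTUnitary

open Cfsg.Lib.Classical

universe u v

variable {F : Type u} [Field F] {V : Type v} [AddCommGroup V] [Module F V] {H : HermSpace F V}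

/-- A root of the trace equation. -/
structure Omega (H : HermSpace F V) (ω : F) : Prop where
  trace : ω + H.σ ω = 1

namespace Omega

variable {ω : F} (hω : Omega H ω) (hq : Four H)
include hω

theorem ne_zero : ω ≠ 0 := fun e => by
  have := hω.trace
  rw [e, map_zero, add_zero] at this
  exact zero_ne_one this

include hq

theorem conj_eq : H.σ ω = ω + 1 := by linear_combination hω.trace - ω * hq.two

theorem sq_eq : ω * ω = ω + 1 := by
  have h := hq.norm ω hω.ne_zero
  rw [hω.conj_eq hq] at h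
  linear_combination h - ω * hq.two

theorem succ_ne_zero : ω + 1 ≠ 0 := by
  rw [← hω.conj_eq hq, ne_eq, H.conj.eq_zero]
  exact hω.ne_zero

end Omega

variable (hq : Four H)
include hq

/-- Equal transvections have orthogonal centres. -/
theorem eq_zero_of_tv_eq {a b : V} (hb0 : b ≠ 0) (ha : H.h a a = 0) (hb : H.h b b = 0)
    (h : tv hq a = tv hq b) : H.h a b = 0 := by
  have h1 : (tv hq a).1.1 a = (tv hq b).1.1 a := by rw [h]
  rw [tv_fix hq ha ha, tv_apply hq hb, left_eq_add, smul_eq_zero] at h1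
  exact h1.resolve_right hb0

/-- Transvections with non-orthogonal centres do not commute. -/
theorem not_commute_tv {a b : V} (hb0 : b ≠ 0) (ha : H.h a a = 0) (hb : H.h b b = 0) (h : H.h b a ≠ 0) :
    ¬ Commute (tv hq a) (tv hq b) := by
  intro hc
  have hmap : H.h ((tv hq a).1.1 b) ((tv hq a).1.1 b) = 0 := by rw [H.map_form, hb]
  have e : tv hq b = tv hq ((tv hq a).1.1 b) := by
    rw [← tv_conj hq _ hb, hc.eq, mul_inv_cancel_right]
  have hne : (tv hq a).1.1 b ≠ 0 := H.isom_ne_zero _ hb0
  have h1 := eq_zero_of_tv_eq hq hne hb hmap e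
  rw [tv_apply hq ha, H.add_right, H.smul_right, hb, zero_add, hq.norm_flip h] at h1
  exact one_ne_zero h1

theorem commute_tv_iff {a b : V} (hb0 : b ≠ 0) (ha : H.h a a = 0) (hb : H.h b b = 0) :
    Commute (tv hq a) (tv hq b) ↔ H.h b a = 0 :=
  ⟨fun hc => of_not_not fun h => not_commute_tv hq hb0 ha hb h hc, fun h => tv_commute hq ha hb h⟩

variable [Finite F] [FiniteDimensional F V]

/-- The scalar `ω` on the orthogonal of two orthogonal norm one vectors. -/
theorem exists_zeta (hd : Module.finrank F V = 5) {ω : F} (hω : Omega H ω) {v u : V} (hv : H.h v v = 1)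
    (hu : H.h u u = 1) (huv : H.h u v = 0) :
    ∃ ζ ∈ lp hq (⊤ : Submodule F V) (v + u), ζ.1.1 v = v ∧ ζ.1.1 u = u ∧
      ∀ x, H.h x v = 0 → H.h x u = 0 → ζ.1.1 x = ω • x := by
  have hT : H.NondegOn (⊤ : Submodule F V) := fun z _ h => H.nondeg z fun x => h x trivial
  have hN1 := perp1_nondeg hq hT Submodule.mem_top hv
  have hu1 : u ∈ perp1 H ⊤ v := mem_perp1.mpr ⟨trivial, huv⟩
  set W := perp1 H (perp1 H ⊤ v) u with hWdef
  have hN2 : H.NondegOn W := perp1_nondeg hq hN1 hu1 hu
  have hWd : Module.finrank F W = 3 := by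
    have h1 := perp1_finrank hq (U := (⊤ : Submodule F V)) (w := v) trivial hv
    have h2 := perp1_finrank hq (U := perp1 H ⊤ v) (w := u) hu1 hu
    rw [finrank_top, hd] at h1
    show Module.finrank F (perp1 H (perp1 H ⊤ v) u) = 3
    omega
  have memW : ∀ x, x ∈ W ↔ H.h x v = 0 ∧ H.h x u = 0 := fun x => by
    rw [hWdef, mem_perp1, mem_perp1]; simp
  obtain ⟨e, heW, he0, hee⟩ := exists_iso hN2 (by omega)
  obtain ⟨f, p⟩ := exists_pair hN2 heW he0 hee
  obtain ⟨w, hw, hww⟩ := exists_unit (p.nondeg hq hN2) (by have := p.finrank hq; omega)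
  obtain ⟨hwW, hwe, hwf⟩ := mem_perp2.mp hw
  have hfe := p.flip
  have hef := p.prod
  have hff := p.iso_right
  have hew := H.eq_zero_symm hwe
  have hfw := H.eq_zero_symm hwf
  obtain ⟨hev, heu⟩ := (memW e).mp heW
  obtain ⟨hfv, hfu⟩ := (memW f).mp p.mem_right
  obtain ⟨hwv, hwu⟩ := (memW w).mp hwW
  have hσ := hω.conj_eq hq
  have h2 := hq.two
  have hsq := hω.sq_eq hq
  have hspan : ∀ x ∈ W, x = H.h x f • e + H.h x e • f + H.h x w • w := by
    intro x hx
    have hm := p.proj_mem hq hx
    set y := x + H.h x f • e + H.h x e • f with hy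
    have hyw : H.h y w = H.h x w := by
      rw [hy, H.add_left, H.add_left, H.smul_left, H.smul_left, hew, hfw, mul_zero, mul_zero, add_zero, add_zero]
    have h0 : perp1 H (perp2 H W e f) w = ⊥ := by
      refine Submodule.finrank_eq_zero.mp ?_
      have h1 := p.finrank hq
      have h2 := perp1_finrank hq (U := perp2 H W e f) hw hww
      omega
    have hm' : y + H.h y w • w ∈ perp1 H (perp2 H W e f) w :=
      mem_perp1.mpr ⟨Submodule.add_mem _ hm (Submodule.smul_mem _ _ hw), by
        rw [H.add_left, H.smul_left, hww, mul_one]; exact hq.add_self _⟩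
    rw [h0, Submodule.mem_bot, hyw, hy] at hm'
    refine hq.eq_of_vadd ?_
    rw [← add_assoc, ← add_assoc]
    exact hm'
  set p₁ := e + ω • f + w with hp₁
  set p₂ := e + ω • f + (ω + 1) • w with hp₂
  have hp11 : H.h p₁ p₁ = 0 := by
    simp only [hp₁, H.add_left, H.add_right, H.smul_left, H.smul_right, hee, hff, hef, hfe, hwe, hwf, hew, hfw,
      hww, hσ]
    linear_combination (ω + 1) * hq.two
  have hp22 : H.h p₂ p₂ = 0 := by
    simp only [hp₂, H.add_left, H.add_right, H.smul_left, H.smul_right, hee, hff, hef, hfe, hwe, hwf, hew, hfw,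
      hww, map_add, map_one, hσ]
    linear_combination hsq + (3 * ω + 2) * hq.two - (1 : F) * 0
  have hvu := H.eq_zero_symm huv
  have he1 : H.h e (v + u) = 0 := by rw [H.add_right, hev, heu, add_zero]
  have hf1 : H.h f (v + u) = 0 := by rw [H.add_right, hfv, hfu, add_zero]
  have hw1 : H.h w (v + u) = 0 := by rw [H.add_right, hwv, hwu, add_zero]
  have hp10 : p₁ ≠ 0 := fun e0 => by
    have : H.h p₁ w = 1 := by
      simp only [hp₁, H.add_left, H.smul_left, hew, hfw, hww]; ring
    rw [e0, H.zero_left] at this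
    exact zero_ne_one this
  have hp20 : p₂ ≠ 0 := fun e0 => by
    have : H.h p₂ f = 1 := by
      simp only [hp₂, H.add_left, H.smul_left, hef, hff, hwf]; ring
    rw [e0, H.zero_left] at this
    exact zero_ne_one this
  have hfix : ∀ z, H.h e z = 0 → H.h f z = 0 → H.h w z = 0 →
      (tv hq f * tv hq e * tv hq p₁ * tv hq p₂).1.1 z = z := by
    intro z h1 h2 h3
    rw [H.smul_mul_apply, H.smul_mul_apply, H.smul_mul_apply,
      tv_fix hq hp22 (H.eq_zero_symm (by simp only [hp₂, H.add_left, H.smul_left, h1, h2, h3]; ring)),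
      tv_fix hq hp11 (H.eq_zero_symm (by simp only [hp₁, H.add_left, H.smul_left, h1, h2, h3]; ring)),
      tv_fix hq hee (H.eq_zero_symm h1), tv_fix hq hff (H.eq_zero_symm h2)]
  set ζ := tv hq f * tv hq e * tv hq p₁ * tv hq p₂ with hζ
  have ge : ζ.1.1 e = ω • e := by
    rw [hζ, H.smul_mul_apply, H.smul_mul_apply, H.smul_mul_apply, tv_apply hq hp22, tv_apply hq hp11,
      tv_apply hq hee, tv_apply hq hff]
    simp only [hp₁, hp₂, H.add_left, H.add_right, H.smul_left, H.smul_right, hee, hff, hef, hfe, hwe, hwf,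
      hew, hfw, hww, map_add, map_one, hσ, smul_add, add_smul, smul_smul]
    match_scalars <;> grobner
  have gf : ζ.1.1 f = ω • f := by
    rw [hζ, H.smul_mul_apply, H.smul_mul_apply, H.smul_mul_apply, tv_apply hq hp22, tv_apply hq hp11,
      tv_apply hq hee, tv_apply hq hff]
    simp only [hp₁, hp₂, H.add_left, H.add_right, H.smul_left, H.smul_right, hee, hff, hef, hfe, hwe, hwf,
      hew, hfw, hww, map_add, map_one, hσ, smul_add, add_smul, smul_smul]
    match_scalars <;> grobner
  have gw : ζ.1.1 w = ω • w := by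
    rw [hζ, H.smul_mul_apply, H.smul_mul_apply, H.smul_mul_apply, tv_apply hq hp22, tv_apply hq hp11,
      tv_apply hq hee, tv_apply hq hff]
    simp only [hp₁, hp₂, H.add_left, H.add_right, H.smul_left, H.smul_right, hee, hff, hef, hfe, hwe, hwf,
      hew, hfw, hww, map_add, map_one, hσ, smul_add, add_smul, smul_smul]
    match_scalars <;> grobner
  refine ⟨ζ, ?_, hfix v hev hfv hwv, hfix u heu hfu hwu, fun x hxv hxu => ?_⟩
  · rw [hζ]
    refine Subgroup.mul_mem _ (Subgroup.mul_mem _ (Subgroup.mul_mem _ ?_ ?_) ?_) ?_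
    · exact tv_mem_lp hq trivial p.swap.ne_zero hff hf1
    · exact tv_mem_lp hq trivial he0 hee he1
    · exact tv_mem_lp hq trivial hp10 hp11 (by simp only [hp₁, H.add_left, H.smul_left, he1, hf1, hw1]; ring)
    · exact tv_mem_lp hq trivial hp20 hp22 (by simp only [hp₂, H.add_left, H.smul_left, he1, hf1, hw1]; ring)
  · rw [hspan x ((memW x).mpr ⟨hxv, hxu⟩)]
    simp only [map_add, map_smul, ge, gf, gw, smul_add, smul_smul, mul_comm ω]

/-- The element attached to `v`. -/
structure Zed (ω : F) (v : V) (z : H.SIsom) : Prop where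
  unit : H.h v v = 1
  omega : Omega H ω
  apply : ∀ x, z.1.1 x = ω • x + H.h x v • v

/-- Splitting at a normalised isotropic vector. -/
theorem split_normalised (hd : Module.finrank F V = 5) {ω : F} (hω : Omega H ω) {v c : V}
    (hv : H.h v v = 1) (hc : H.h c c = 0) (hcv : H.h c v = 1) :
    ∃ ζ ∈ lp hq (⊤ : Submodule F V) c, ζ.1.1 v = v ∧ ∀ x,
      (tv hq c * tv hq (ω • c + v) * ζ).1.1 x = ω • x + H.h x v • v := by
  set u := v + c with hu
  have hvc : H.h v c = 1 := by rw [H.symm, hcv, map_one]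
  have hcu : c = v + u := by rw [hu, ← add_assoc, hq.vadd_self, zero_add]
  have huv : H.h u v = 0 := by rw [hu, H.add_left, hv, hcv]; exact hq.add_self 1
  have hvu := H.eq_zero_symm huv
  have huu : H.h u u = 1 := by
    simp only [hu, H.add_left, H.add_right, hv, hc, hcv, hvc]; linear_combination hq.two
  clear_value u
  obtain ⟨ζ, hζ, hζv, hζu, hζx⟩ := exists_zeta hq hd hω hv huu huv
  rw [← hcu] at hζ
  refine ⟨ζ, hζ, hζv, fun x => ?_⟩
  have hσ := hω.conj_eq hq
  have h2 := hq.two
  have hsq := hω.sq_eq hq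
  have hc'0 : H.h (ω • c + v) (ω • c + v) = 0 := by
    simp only [H.add_left, H.add_right, H.smul_left, H.smul_right, hc, hv, hcv, hvc, hσ]
    linear_combination (ω + 1) * hq.two
  set r := tv hq c * tv hq (ω • c + v) with hr
  have rv : r.1.1 v = ω • v + v := by
    rw [hr, H.smul_mul_apply, tv_apply hq hc'0, tv_apply hq hc]
    simp only [H.add_left, H.add_right, H.smul_left, H.smul_right, hc, hv, hcv, hvc, hσ, smul_add, add_smul,
      smul_smul]
    match_scalars <;> grobner
  have ru : r.1.1 u = ω • u := by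
    rw [hr, H.smul_mul_apply, tv_apply hq hc'0, tv_apply hq hc]
    simp only [hcu, H.add_left, H.add_right, H.smul_left, H.smul_right, hv, huu, huv, hvu, hσ, smul_add,
      add_smul, smul_smul]
    match_scalars <;> grobner
  set y := x + H.h x v • v + H.h x u • u with hy
  have hyv : H.h y v = 0 := by
    simp only [hy, H.add_left, H.smul_left, hv, huv]; linear_combination H.h x v * hq.two
  have hyu : H.h y u = 0 := by
    simp only [hy, H.add_left, H.smul_left, hvu, huu]; linear_combination H.h x u * hq.two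
  have hyc : H.h y c = 0 := by rw [hcu, H.add_right, hyv, hyu, add_zero]
  have ry : r.1.1 y = y := by
    rw [hr, H.smul_mul_apply,
      tv_fix hq hc'0 (by rw [H.add_right, H.smul_right, hyc, hyv, mul_zero, add_zero]), tv_fix hq hc hyc]
  have ex : x = y + H.h x v • v + H.h x u • u := by
    rw [hy]
    calc x = x + (H.h x v • v + H.h x u • u) + (H.h x v • v + H.h x u • u) := (hq.vadd_cancel _ _).symm
      _ = _ := by abel
  have : (r * ζ).1.1 x = ω • y + H.h x v • (ω • v + v) + H.h x u • (ω • u) := by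
    conv_lhs => rw [ex]
    simp only [H.smul_mul_apply, map_add, map_smul, hζv, hζu, hζx y hyv hyu, ry, rv, ru]
  rw [this]
  conv_rhs => enter [1, 2]; rw [ex]
  module

theorem exists_zed (hd : Module.finrank F V = 5) : ∃ ω v z, Zed (H := H) ω v z := by
  obtain ⟨ω, hω⟩ := H.conj.exists_trace_one
  have hT : H.NondegOn (⊤ : Submodule F V) := fun z _ h => H.nondeg z fun x => h x trivial
  obtain ⟨v, -, hv⟩ := exists_unit hT (by rw [finrank_top]; omega)
  obtain ⟨u, hu, huu⟩ := exists_unit (perp1_nondeg hq hT Submodule.mem_top hv)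
    (by have h1 := perp1_finrank hq (U := (⊤ : Submodule F V)) (w := v) trivial hv
        rw [finrank_top, hd] at h1
        omega)
  have huv := (mem_perp1.mp hu).2
  obtain ⟨ζ, -, -, h⟩ := split_normalised hq hd ⟨hω⟩ (c := v + u) hv
    (by rw [H.add_left, H.add_right, H.add_right, hv, huu, huv, H.eq_zero_symm huv]; linear_combination hq.two)
    (by rw [H.add_left, hv, huv, add_zero])
  exact ⟨ω, v, _, hv, ⟨hω⟩, h⟩

namespace Zed

variable {ω : F} {v : V} {z : H.SIsom} (Z : Zed ω v z)
include Z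

theorem pow_three : z ^ 3 = 1 := by
  refine H.sisom_ext fun x => ?_
  have hsq := Z.omega.sq_eq hq
  have h2 := hq.two
  rw [_root_.pow_three, H.smul_mul_apply, H.smul_mul_apply]
  show _ = x
  simp only [Z.apply, H.add_left, H.smul_left, Z.unit, smul_add, smul_smul]
  match_scalars <;> grobner

theorem form (x : V) : H.h (z.1.1 x) v = (ω + 1) * H.h x v := by
  rw [Z.apply, H.add_left, H.smul_left, H.smul_left, Z.unit]; ring

theorem apply_perp {x : V} (hx : H.h x v = 0) : z.1.1 x = ω • x := by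
  rw [Z.apply, hx, zero_smul, add_zero]

theorem form_self {c : V} (hc : H.h c c = 0) (hcv : H.h c v ≠ 0) : H.h c (z.1.1 c) = 1 := by
  rw [Z.apply, H.add_right, H.smul_right, H.smul_right, hc, mul_zero, zero_add, hq.norm_flip hcv]

theorem commute_tv_iff {c : V} (hc0 : c ≠ 0) (hc : H.h c c = 0) :
    Commute (tv hq c) z ↔ H.h c v = 0 := by
  constructor
  · intro h
    by_contra hcv
    have hz : H.h (z.1.1 c) (z.1.1 c) = 0 := by rw [H.map_form, hc]
    have e : tv hq c = tv hq (z.1.1 c) := by
      rw [← tv_conj hq z hc, ← h.eq, mul_inv_cancel_right]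
    have := eq_zero_of_tv_eq hq (H.isom_ne_zero _ hc0) hc hz e
    rw [Z.form_self hq hc hcv] at this
    exact one_ne_zero this
  · intro h
    have e := tv_conj hq z hc
    rw [Z.apply_perp hq h, tv_smul hq hc Z.omega.ne_zero] at e
    exact (mul_inv_eq_iff_eq_mul.mp e).symm

/-- The splitting at any isotropic vector off the orthogonal of `v`. -/
theorem split (hd : Module.finrank F V = 5) {c : V} (hc : H.h c c = 0) (hcv : H.h c v ≠ 0) :
    ∃ ζ ∈ lp hq (⊤ : Submodule F V) c, ζ.1.1 v = v ∧ z = tv hq c * tv hq (z.1.1 c) * ζ := by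
  set k := H.σ (H.h c v) with hk
  have hk0 : k ≠ 0 := fun e => hcv (H.conj.eq_zero.mp e)
  obtain ⟨ζ, hζ, hζv, h⟩ := split_normalised hq hd Z.omega (c := k • c) Z.unit
    (by rw [hq.h_smul_smul hk0, hc]) (by rw [H.smul_left, hk, hq.norm_flip hcv])
  refine ⟨ζ, ?_, hζv, ?_⟩
  · refine Subgroup.closure_le _ |>.mpr ?_ hζ
    rintro _ ⟨x, h1, h2, h3, h4, rfl⟩
    refine tv_mem_lp hq h1 h2 h3 ?_
    rw [H.smul_right, mul_eq_zero] at h4
    exact h4.resolve_left fun e => hk0 (H.conj.eq_zero.mp e)
  · have e : ω • (k • c) + v = k • z.1.1 c := by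
      rw [Z.apply, smul_add, smul_smul, smul_smul, smul_smul, mul_comm ω k, hk, hq.norm_flip hcv, one_smul]
    have e' : z = tv hq (k • c) * tv hq (ω • (k • c) + v) * ζ := H.sisom_ext fun x => by rw [h, Z.apply]
    rwa [tv_smul hq hc hk0, e, tv_smul hq (by rw [H.map_form, hc]) hk0] at e'

end Zed

/-- A transvection fixing `v` which moves `c` so that the third point with `e` is orthogonal to `v`. -/
theorem exists_switch (hd : Module.finrank F V = 5) {v c e : V} (hv : H.h v v = 1) (he : H.h e e = 0)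
    (hcv : H.h c v = 1) (hev : H.h e v = 1) :
    ∃ f, f ≠ 0 ∧ H.h f f = 0 ∧ H.h f v = 0 ∧ H.h (c + H.h c f • f) e = 1 := by
  set e₁ := e + v with he₁
  set c₁ := c + v with hc₁
  have hve : H.h v e = 1 := by rw [H.symm, hev, map_one]
  have hvc : H.h v c = 1 := by rw [H.symm, hcv, map_one]
  have e1v : H.h e₁ v = 0 := by rw [he₁, H.add_left, hev, hv]; exact hq.add_self 1
  have c1v : H.h c₁ v = 0 := by rw [hc₁, H.add_left, hcv, hv]; exact hq.add_self 1
  have e11 : H.h e₁ e₁ = 1 := by
    simp only [he₁, H.add_left, H.add_right, he, hv, hev, hve]; linear_combination hq.two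
  have hm : H.h c₁ e₁ = H.h c e + 1 := by
    simp only [he₁, hc₁, H.add_left, H.add_right, hv, hcv, hve]; linear_combination hq.two
  clear_value e₁ c₁
  have hT : H.NondegOn (⊤ : Submodule F V) := fun z _ h => H.nondeg z fun x => h x trivial
  have hN1 := perp1_nondeg hq hT Submodule.mem_top hv
  have he1m : e₁ ∈ perp1 H ⊤ v := mem_perp1.mpr ⟨trivial, e1v⟩
  set W := perp1 H (perp1 H ⊤ v) e₁ with hWdef
  have hN2 : H.NondegOn W := perp1_nondeg hq hN1 he1m e11
  have hWd : Module.finrank F W = 3 := by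
    have h1 := perp1_finrank hq (U := (⊤ : Submodule F V)) (w := v) trivial hv
    have h2 := perp1_finrank hq (U := perp1 H ⊤ v) (w := e₁) he1m e11
    rw [finrank_top, hd] at h1
    show Module.finrank F (perp1 H (perp1 H ⊤ v) e₁) = 3
    omega
  have memW : ∀ x, x ∈ W ↔ H.h x v = 0 ∧ H.h x e₁ = 0 := fun x => by
    rw [hWdef, mem_perp1, mem_perp1]; simp
  set r := c₁ + H.h c₁ e₁ • e₁ with hr
  have hrW : r ∈ W := (memW r).mpr ⟨by rw [hr, H.add_left, H.smul_left, c1v, e1v, mul_zero, add_zero],
    by rw [hr, H.add_left, H.smul_left, e11, mul_one]; exact hq.add_self _⟩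
  obtain ⟨y, hyW, hyy, hry⟩ : ∃ y ∈ W, H.h y y = 1 ∧ H.h r y = 0 := by
    rcases hq.self_cases r with h0 | h1
    · by_cases hr0 : r = 0
      · obtain ⟨y, hy, hyy⟩ := exists_unit hN2 (by omega)
        exact ⟨y, hy, hyy, by rw [hr0, H.zero_left]⟩
      · obtain ⟨r', p⟩ := exists_pair hN2 hrW hr0 h0
        obtain ⟨y, hy, hyy⟩ := exists_unit (p.nondeg hq hN2) (by have := p.finrank hq; omega)
        exact ⟨y, (mem_perp2.mp hy).1, hyy, H.eq_zero_symm (mem_perp2.mp hy).2.1⟩
    · obtain ⟨y, hy, hyy⟩ := exists_unit (perp1_nondeg hq hN2 hrW h1)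
        (by have := perp1_finrank hq (U := W) hrW h1; omega)
      exact ⟨y, (mem_perp1.mp hy).1, hyy, H.eq_zero_symm (mem_perp1.mp hy).2⟩
  obtain ⟨hyv, hye⟩ := (memW y).mp hyW
  set f := e₁ + y with hf
  have hey := H.eq_zero_symm hye
  have hff : H.h f f = 0 := by
    simp only [hf, H.add_left, H.add_right, e11, hyy, hye, hey]; linear_combination hq.two
  have hfe1 : H.h f e₁ = 1 := by rw [hf, H.add_left, e11, hye, add_zero]
  have hfv : H.h f v = 0 := by rw [hf, H.add_left, e1v, hyv, add_zero]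
  have hrf : H.h r f = 0 := by
    rw [hf, H.add_right, hry, add_zero]; exact ((memW r).mp hrW).2
  have hcf : H.h c₁ f = H.h c₁ e₁ := by
    rw [hr, H.add_left, H.smul_left, H.symm e₁ f, hfe1, map_one, mul_one] at hrf
    exact hq.eq_of_add hrf
  clear_value f
  refine ⟨f, fun e0 => by rw [e0, H.zero_left] at hfe1; exact zero_ne_one hfe1, hff, hfv, ?_⟩
  have hcf' : H.h c f = H.h c₁ f := by
    rw [hc₁, H.add_left, H.eq_zero_symm hfv, add_zero]
  have hfe : H.h f e = 1 := by
    rw [← hfe1, he₁, H.add_right, hfv, add_zero]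
  rw [H.add_left, H.smul_left, hfe, hcf', hcf, hm]
  linear_combination H.h c e * hq.two

end Cfsg.Lib.TTUnitary
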