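import Cfsg.Agent.ThreeTransposition.UnitaryRadical.Abelian
import Cfsg.Agent.ThreeTransposition.UnitaryRadical.Complement.Frame
import Mathlib.GroupTheory.Complement

/-!
# An equivariant choice of transpositions over `SU₅(2)`

Relative to a lift `z` of order three of the element attached to a norm one vector, each transvection
has exactly one good preimage in the class; the good ones form a class generating a complement.
-/

set_option autoImplicit false
set_option linter.unusedSectionVars false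

namespace Cfsg.Lib.TTUnitary

open Cfsg.Lib.Classical Subgroup

universe u v w

variable {F : Type u} [Field F] {V : Type v} [AddCommGroup V] [Module F V] {H : HermSpace F V}
variable [Finite F] [FiniteDimensional F V] {G : Type w} [Group G] [Finite G]
variable {hq : Four H} {ψ : G →* H.SIsom} {D : Set G}

namespace Quot

variable (P : Quot hq ψ D)
include P

theorem ker_comm {a b : G} (ha : a ∈ ψ.ker) (hb : b ∈ ψ.ker) : Commute a b :=
  congrArg Subtype.val (P.ker_elementary.1.1.1 ⟨a, ha⟩ ⟨b, hb⟩)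

theorem ker_sq {a : G} (ha : a ∈ ψ.ker) : a * a = 1 := by
  rw [← pow_two]; exact P.ker_elementary.2 a ha

omit [Finite G] in
theorem mul_mem_block {x x' : G} (hx' : x' ∈ D) (e : ψ x' = ψ x) :
    x * x' ∈ block ψ D x := subset_closure ⟨x', hx', e, rfl⟩

omit [Finite G] in
theorem braid {x y : G} (hx : x ∈ D) (hy : y ∈ D) (h : ¬ Commute x y) : x * y * x = y * x * y := by
  rcases P.cls.1.2 x hx y hy with h2 | h3
  · exfalso
    apply h
    have e : x * y = (x * y)⁻¹ := by rw [eq_inv_iff_mul_eq_one, ← pow_two]; exact h2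
    rwa [mul_inv_rev, P.inv_self hx, P.inv_self hy] at e
  · have h' : (x * y * x) * (y * x * y) = 1 := by rw [← h3]; simp [pow_succ, mul_assoc]
    rw [eq_inv_of_mul_eq_one_left h', mul_inv_rev, mul_inv_rev, P.inv_self hx, P.inv_self hy, ← mul_assoc]

omit [Finite G] in
theorem self_cancel {d : G} (hd : d ∈ D) (g : G) : d * (d * g) = g := by
  rw [← mul_assoc, P.sq_one hd, one_mul]

omit [Finite G] in
theorem sandwich {d e : G} (hd : d ∈ D) (he : e ∈ D) : d * e * d ∈ D := by
  have := P.conj_mem he d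
  rwa [P.inv_self hd] at this

omit [Finite G] in
theorem not_commute_of_image {x y : G} (h : ¬ Commute (ψ x) (ψ y)) : ¬ Commute x y :=
  fun hc => h (hc.map ψ)

theorem trace {x y : G} (hx : x ∈ D) (hy : y ∈ D) (h : ¬ Commute (ψ x) (ψ y)) {δ : G}
    (hδ : δ ∈ block ψ D x) : (x * y * δ * (y * x)) * (y * δ * y) = δ := by
  induction hδ using closure_induction with
  | mem c hc =>
    obtain ⟨x', hx', e, rfl⟩ := hc
    have b1 := P.braid hx hy (not_commute_of_image P h)
    have b2 := P.braid hy hx' (fun c => h (e ▸ (c.map ψ).symm))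
    have hxx' : Commute x x' := P.commute_lift hx hx' (e ▸ Commute.refl _)
    calc x * y * (x * x') * (y * x) * (y * (x * x') * y) = x * y * x * x' * y * (x * y * x) * x' * y := by group
      _ = x * y * x * x' * y * (y * x * y) * x' * y := by rw [b1]
      _ = x * y * x * (x' * ((y * y) * x)) * (y * x' * y) := by group
      _ = x * y * x * (x * x') * (y * x' * y) := by rw [P.sq_one hy, one_mul, ← hxx'.eq]
      _ = x * (y * (x * x) * x' * y) * x' * y := by group
      _ = x * (y * x' * y) * x' * y := by rw [P.sq_one hx, mul_one]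
      _ = x * (x' * y * x') * x' * y := by rw [b2]
      _ = x * x' * (y * (x' * x') * y) := by group
      _ = x * x' := by rw [P.sq_one hx', mul_one, P.sq_one hy, mul_one]
  | one => simp [P.self_cancel hy, P.sq_one hy, P.sq_one hx, mul_assoc]
  | mul s t hs ht is it =>
    have hs' := P.block_le_ker hx hs
    have ht' := P.block_le_ker hx ht
    have hn : ∀ g : G, ∀ r ∈ ψ.ker, g * r * g⁻¹ ∈ ψ.ker := fun g r hr => ψ.normal_ker.conj_mem r hr g
    have i1 : (x * y)⁻¹ = y * x := by rw [mul_inv_rev, P.inv_self hx, P.inv_self hy]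
    have e : Commute (y * s * y) (x * y * t * (y * x)) := by
      refine P.ker_comm ?_ ?_
      · simpa [P.inv_self hy] using hn y s hs'
      · simpa [i1, P.inv_self hx, P.inv_self hy] using hn (x * y) t ht'
    calc x * y * (s * t) * (y * x) * (y * (s * t) * y)
        = (x * y * s * (y * x)) * ((x * y * t * (y * x)) * (y * s * y)) * (y * t * y) := by
          simp only [mul_assoc, P.self_cancel hx, P.self_cancel hy]
      _ = (x * y * s * (y * x) * (y * s * y)) * (x * y * t * (y * x) * (y * t * y)) := by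
          rw [← e.eq]; group
      _ = s * t := by rw [is, it]
  | inv s hs is =>
    have hs' := P.block_le_ker hx hs
    rw [inv_eq_of_mul_eq_one_left (P.ker_sq hs')]
    exact is

theorem free {x y : G} (hx : x ∈ D) (hy : y ∈ D) (h : ¬ Commute (ψ x) (ψ y)) {δ : G}
    (hδ : δ ∈ block ψ D x) (hc : Commute y δ) : δ = 1 := by
  have hxδ : Commute x δ := P.commute_block hx hx (Commute.refl _) hδ
  have := P.trace hx hy h hδ
  have e1 : y * δ * y = δ := by rw [hc.eq, mul_assoc, P.sq_one hy, mul_one]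
  have e2 : x * y * δ * (y * x) = δ := by
    calc x * y * δ * (y * x) = x * (y * δ * y) * x := by group
      _ = δ := by rw [e1, hxδ.eq, mul_assoc, P.sq_one hx, mul_one]
  rw [e1, e2] at this
  exact this.symm.trans (P.ker_sq (P.block_le_ker hx hδ))

theorem exists_noncommuting {d : G} (hd : d ∈ D) : ∃ y ∈ D, ¬ Commute (ψ d) (ψ y) := by
  obtain ⟨a, ha0, ha, ea⟩ := P.image hd
  obtain ⟨b, hab, hbb⟩ := H.exists_hyperbolic ha0 ha
  have hb0 : b ≠ 0 := fun e => by rw [e, H.zero_right] at hab; exact zero_ne_one hab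
  obtain ⟨y, hy, ey⟩ := P.lift hb0 hbb
  refine ⟨y, hy, ?_⟩
  rw [ea, ey]
  exact not_commute_tv hq hb0 ha hbb (by rw [H.symm, hab, map_one]; exact one_ne_zero)

theorem three {d₁ d₂ d₃ : G} (h1 : d₁ ∈ D) (h2 : d₂ ∈ D) (h3 : d₃ ∈ D) (e12 : ψ d₂ = ψ d₁)
    (e13 : ψ d₃ = ψ d₁) : d₁ * d₂ * d₃ ∈ D := by
  obtain ⟨y, hy, hny⟩ := P.exists_noncommuting h3
  set a := (d₃ * d₁) * (d₃ * d₂) with ha
  have haB : a ∈ block ψ D d₃ :=
    mul_mem (mul_mem_block P h1 e13.symm) (mul_mem_block P h2 (e12.trans e13.symm))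
  have c3a : Commute d₃ a := P.commute_block h3 h3 (Commute.refl _) haB
  have c31 : Commute d₃ d₁ := P.commute_lift h3 h1 (e13 ▸ Commute.refl _)
  have c32 : Commute d₃ d₂ := P.commute_lift h3 h2 (by rw [e13, e12])
  have ha' : a = d₁ * d₂ := by rw [ha, c31.eq, mul_assoc, P.self_cancel h3]
  have hai : a⁻¹ = a := inv_eq_of_mul_eq_one_left (P.ker_sq (P.block_le_ker h3 haB))
  have htr := P.trace h3 hy hny haB
  have hb := P.braid h3 hy (not_commute_of_image P hny)
  have hD : (y * d₃) * (a * y * a) * (d₃ * y) ∈ D := by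
    have h' : a * y * a ∈ D := by simpa [hai] using P.conj_mem hy a
    simpa [mul_assoc, P.inv_self h3, P.inv_self hy] using P.conj_mem h' (y * d₃)
  have key : (y * d₃) * (a * y * a) * (d₃ * y) = d₃ * a := by
    have hda : d₃ * a * d₃ = a := by rw [c3a.eq, mul_assoc, P.sq_one h3, mul_one]
    calc (y * d₃) * (a * y * a) * (d₃ * y)
        = y * (d₃ * a * d₃) * (d₃ * y * d₃) * (d₃ * a * d₃) * y := by
          simp only [mul_assoc, P.self_cancel h3]
      _ = y * a * (y * d₃ * y) * a * y := by rw [hda, hb]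
      _ = d₃ * ((d₃ * y * a * (y * d₃)) * (y * a * y)) := by
          simp only [mul_assoc, P.self_cancel h3]
      _ = d₃ * a := by rw [htr]
  rw [key, ha', ← mul_assoc, c31.eq, mul_assoc, c32.eq, ← mul_assoc] at hD
  exact hD

theorem lp_le {a : V} : lp hq ⊤ a ≤ (closure {d ∈ D | (ψ d).1.1 a = a}).map ψ := by
  rw [lp, closure_le]
  rintro _ ⟨x, -, hx0, hx, hxa, rfl⟩
  obtain ⟨d, hd, e⟩ := P.lift hx0 hx
  exact ⟨d, subset_closure ⟨hd, by rw [e, tv_fix hq hx (H.eq_zero_symm hxa)]⟩, e⟩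

end Quot

/-- A lift of order three of the element attached to a norm one vector. -/
structure Pivot (hq : Four H) (ψ : G →* H.SIsom) (D : Set G) (ω : F) (v : V) (z : G) : Prop where
  quot : Quot hq ψ D
  dim : Module.finrank F V = 5
  zed : Zed ω v (ψ z)
  cube : z * z * z = 1

/-- A preimage in the class is good if it is fixed by `z` or satisfies the line condition. -/
def Good (ψ : G →* H.SIsom) (z d : G) : Prop :=
  (Commute (ψ d) (ψ z) → Commute d z) ∧
    (¬ Commute (ψ d) (ψ z) → d = z * (d * (z * d * z⁻¹) * d) * z⁻¹)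

namespace Pivot

variable {ω : F} {v : V} {z : G} (T : Pivot hq ψ D ω v z)
include T

omit [Finite G] in
theorem z_inv : z⁻¹ = z * z := inv_eq_of_mul_eq_one_left T.cube

omit [Finite G] in
theorem vec {d : G} (hd : d ∈ D) {c : V} (hc0 : c ≠ 0) (hc : H.h c c = 0) (e : ψ d = tv hq c) :
    Commute (ψ d) (ψ z) ↔ H.h c v = 0 := by
  rw [e]; exact T.zed.commute_tv_iff hq hc0 hc

theorem conj_image {d : G} {c : V} (hc : H.h c c = 0) (e : ψ d = tv hq c) :
    ψ (z * d * z⁻¹) = tv hq ((ψ z).1.1 c) := by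
  rw [map_mul, map_mul, map_inv, e, tv_conj hq _ hc]

theorem not_commute_conj {d : G} (hd : d ∈ D) (ho : ¬ Commute (ψ d) (ψ z)) :
    ¬ Commute (ψ d) (ψ (z * d * z⁻¹)) := by
  obtain ⟨c, hc0, hc, e⟩ := T.quot.image hd
  rw [T.conj_image hc e, e]
  have hcv : H.h c v ≠ 0 := fun h => ho ((T.vec hd hc0 hc e).mpr h)
  refine not_commute_tv hq (H.isom_ne_zero _ hc0) hc (by rw [H.map_form, hc]) ?_
  rw [H.symm, T.zed.form_self hq hc hcv, map_one]
  exact one_ne_zero

/-- The line through a member and its conjugate. -/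
theorem exists_split {d : G} (hd : d ∈ D) (ho : ¬ Commute (ψ d) (ψ z)) :
    ∃ l : G, z = d * (z * d * z⁻¹) * l ∧ (∀ δ ∈ block ψ D d, Commute l δ) ∧ Commute (ψ l) (ψ d) ∧
      Commute (ψ l) (ψ (z * d * z⁻¹)) := by
  obtain ⟨c, hc0, hc, e⟩ := T.quot.image hd
  have hcv : H.h c v ≠ 0 := fun h => ho ((T.vec hd hc0 hc e).mpr h)
  obtain ⟨ζ, hζ, hζv, hz⟩ := T.zed.split hq T.dim hc hcv
  have e1 := T.conj_image hc e
  have hd1 := T.quot.conj_mem hd z
  set d₁ := z * d * z⁻¹
  set l := d₁⁻¹ * d⁻¹ * z with hl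
  have hzl : z = d * d₁ * l := by rw [hl]; group
  have hψl : ψ l = ζ := by
    have h1 : ψ z = ψ d * ψ d₁ * ψ l := by rw [← map_mul, ← map_mul, ← hzl]
    rw [e, e1] at h1
    exact (mul_left_cancel (hz.symm.trans h1)).symm
  have hζc := fix_of_mem_lp hq hζ
  refine ⟨l, hzl, fun δ hδ => ?_, ?_, ?_⟩
  · obtain ⟨m, hm, em⟩ := T.quot.lp_le hζ
    have hq' : m⁻¹ * l ∈ ψ.ker := by rw [MonoidHom.mem_ker, map_mul, map_inv, em, hψl, inv_mul_cancel]
    have hm' : Commute m δ := by
      refine (show ∀ g ∈ closure {x ∈ D | (ψ x).1.1 c = c}, Commute g δ from fun g hg => ?_) m hm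
      induction hg using closure_induction with
      | mem x hx => exact T.quot.commute_block hd hx.1 (by rw [e]; exact tv_commute_of_fix hq _ hc hx.2) hδ
      | one => exact Commute.one_left δ
      | mul _ _ _ _ u w => exact u.mul_left w
      | inv _ _ u => exact u.inv_left
    have := hm'.mul_left (T.quot.ker_comm hq' (T.quot.block_le_ker hd hδ))
    rwa [mul_inv_cancel_left] at this
  · rw [hψl, e]; exact tv_commute_of_fix hq _ hc hζc
  · rw [hψl, e1]
    refine tv_commute_of_fix hq _ (by rw [H.map_form, hc]) ?_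
    rw [T.zed.apply, map_add, map_smul, map_smul, hζc, hζv]

theorem conj_block {d : G} (hd : d ∈ D) (ho : ¬ Commute (ψ d) (ψ z)) {δ : G} (hδ : δ ∈ block ψ D d) :
    z * δ * z⁻¹ = d * (z * d * z⁻¹) * δ * ((z * d * z⁻¹) * d) := by
  obtain ⟨l, hz, hl, -, -⟩ := T.exists_split hd ho
  have hd1 := T.quot.conj_mem hd z
  conv_lhs => rw [hz]
  generalize z * d * z⁻¹ = d₁ at hd1 ⊢
  calc d * d₁ * l * δ * (d * d₁ * l)⁻¹ = d * d₁ * (l * δ * l⁻¹) * (d₁⁻¹ * d⁻¹) := by group
    _ = d * d₁ * δ * (d₁ * d) := by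
      rw [(hl δ hδ).eq, mul_inv_cancel_right, T.quot.inv_self hd, T.quot.inv_self hd1]

theorem indep {d d' : G} (hd : d ∈ D) (hd' : d' ∈ D) (e : ψ d' = ψ d) (ho : ¬ Commute (ψ d) (ψ z)) :
    d' * (z * d' * z⁻¹) * d' = d * (z * d * z⁻¹) * d := by
  set δ := d * d'
  have hδ : δ ∈ block ψ D d := T.quot.mul_mem_block hd' e
  have hd'e : d' = d * δ := (T.quot.self_cancel hd d').symm
  have hdδ : Commute d δ := T.quot.commute_block hd hd (Commute.refl _) hδ
  have hδ2 := T.quot.ker_sq (T.quot.block_le_ker hd hδ)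
  have hcb := T.conj_block hd ho hδ
  have hd1 := T.quot.conj_mem hd z
  have htr := T.quot.trace hd hd1 (T.not_commute_conj hd ho) hδ
  have hb := T.quot.braid hd hd1 (Quot.not_commute_of_image T.quot (T.not_commute_conj hd ho))
  clear_value δ
  subst hd'e
  rw [show z * (d * δ) * z⁻¹ = (z * d * z⁻¹) * (z * δ * z⁻¹) by group, hcb]
  generalize z * d * z⁻¹ = d₁ at hd1 htr hb ⊢
  have s := T.quot.self_cancel hd
  have s1 := T.quot.self_cancel hd1
  have hdd : d * δ * d = δ := by rw [hdδ.eq, mul_assoc, T.quot.sq_one hd, mul_one]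
  calc d * δ * (d₁ * (d * d₁ * δ * (d₁ * d))) * (d * δ) = d * δ * ((d₁ * d * d₁) * δ * d₁ * δ) := by
        simp only [mul_assoc, s]
    _ = (d * δ * d) * (d₁ * d * δ * d₁ * δ) := by rw [← hb]; simp only [mul_assoc]
    _ = δ * (d₁ * (d * δ * d) * (d * d₁ * δ)) := by
        rw [hdd]
        simp only [mul_assoc]
        rw [← mul_assoc d δ, hdδ.eq, mul_assoc]
    _ = δ * (d₁ * δ * d₁) * (d₁ * (d * d₁) * δ) := by rw [hdd]; simp only [mul_assoc, s1]
    _ = δ * (d₁ * δ * d₁) * ((d * d₁ * d) * δ * (d * d₁ * d)) * (d * d₁ * d) := by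
        rw [← mul_assoc d₁ d d₁, ← hb]
        simp only [mul_assoc, s, s1, T.quot.sq_one hd, mul_one]
    _ = δ * ((d * d₁ * (d * δ * d) * (d₁ * d)) * (d₁ * δ * d₁)) * (d * d₁ * d) := by
        have k1 : d * d₁ * (d * δ * d) * (d₁ * d) = (d * d₁ * d) * δ * (d * d₁ * d) := by
          simp only [mul_assoc]
        rw [k1]
        have m1 : (d * d₁ * d) * δ * (d * d₁ * d) ∈ ψ.ker := by
          have := ψ.normal_ker.conj_mem δ (T.quot.block_le_ker hd hδ) (d * d₁ * d)
          simpa [mul_assoc, T.quot.inv_self hd, T.quot.inv_self hd1] using this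
        have m2 : d₁ * δ * d₁ ∈ ψ.ker := by
          have := ψ.normal_ker.conj_mem δ (T.quot.block_le_ker hd hδ) d₁
          simpa [T.quot.inv_self hd1] using this
        rw [(T.quot.ker_comm m1 m2).eq]
        simp only [mul_assoc]
    _ = d * d₁ * d := by rw [hdd, htr, hδ2, one_mul]

theorem target_image {d : G} (hd : d ∈ D) (ho : ¬ Commute (ψ d) (ψ z)) :
    ψ (z * (d * (z * d * z⁻¹) * d) * z⁻¹) = ψ d := by
  obtain ⟨l, hz, -, c0, c1⟩ := T.exists_split hd ho
  have hd1 := T.quot.conj_mem hd z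
  have hb := T.quot.braid hd hd1 (Quot.not_commute_of_image T.quot (T.not_commute_conj hd ho))
  conv_lhs => rw [show z * (d * (z * d * z⁻¹) * d) * z⁻¹ =
    (z * d * z⁻¹) * (z * (z * d * z⁻¹) * z⁻¹) * (z * d * z⁻¹) by group]
  set d₁ := z * d * z⁻¹ with hd₁
  have h2 : ψ (z * d₁ * z⁻¹) = ψ (d * d₁ * d) := by
    conv_lhs => rw [hz]
    simp only [map_mul, mul_inv_rev, map_inv]
    rw [show ψ d * ψ d₁ * ψ l * ψ d₁ * ((ψ l)⁻¹ * ((ψ d₁)⁻¹ * (ψ d)⁻¹)) =
      ψ d * ψ d₁ * (ψ l * ψ d₁ * (ψ l)⁻¹) * ((ψ d₁)⁻¹ * (ψ d)⁻¹) by group, c1.eq, mul_inv_cancel_right,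
      show ψ d * ψ d₁ * ψ d₁ * ((ψ d₁)⁻¹ * (ψ d)⁻¹) = ψ d * ψ d₁ * (ψ d)⁻¹ by group, ← map_inv,
      T.quot.inv_self hd]
  rw [map_mul, map_mul, h2, ← map_mul, ← map_mul, hb]
  congr 1
  simp only [mul_assoc, T.quot.self_cancel hd1, T.quot.sq_one hd1, mul_one]

theorem good_unique {d d' : G} (hd : d ∈ D) (hd' : d' ∈ D) (e : ψ d' = ψ d) (g : Good ψ z d)
    (g' : Good ψ z d') : d = d' := by
  by_cases hi : Commute (ψ d) (ψ z)
  · have hz := g.1 hi
    have hz' := g'.1 (e ▸ hi)
    set δ := d * d'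
    have hδ : δ ∈ block ψ D d := T.quot.mul_mem_block hd' e
    suffices δ = 1 by
      have := inv_eq_of_mul_eq_one_right (show d * d' = 1 from this)
      rwa [T.quot.inv_self hd] at this
    have hδz : Commute z δ := (hz.mul_left hz').symm
    obtain ⟨a, ha0, ha, ea⟩ := T.quot.image hd
    have hav := (T.vec hd ha0 ha ea).mp hi
    obtain ⟨b, hab, hbb⟩ := H.exists_hyperbolic ha0 ha
    have hT : H.NondegOn (⊤ : Submodule F V) := fun x _ h => H.nondeg x fun t => h t trivial
    -- an isotropic vector off both orthogonals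
    obtain ⟨c, hc0, hcc, hca, hcv⟩ : ∃ c, c ≠ 0 ∧ H.h c c = 0 ∧ H.h c a ≠ 0 ∧ H.h c v ≠ 0 := by
      have hb1 : H.h b a = 1 := by rw [H.symm, hab, map_one]
      by_cases hbv : H.h b v = 0
      · have pb : Pair H ⊤ a b := ⟨trivial, trivial, ha, hbb, hab⟩
        have hvm : v ∈ perp2 H ⊤ a b :=
          mem_perp2.mpr ⟨trivial, H.eq_zero_symm hav, H.eq_zero_symm hbv⟩
        have h1 := pb.finrank hq
        have h2 := perp1_finrank hq (U := perp2 H ⊤ a b) hvm T.zed.unit
        rw [finrank_top, T.dim] at h1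
        obtain ⟨u, hu, huu⟩ := exists_unit (perp1_nondeg hq (pb.nondeg hq hT) hvm T.zed.unit) (by omega)
        obtain ⟨hu2, huv⟩ := mem_perp1.mp hu
        obtain ⟨-, hua, hub⟩ := mem_perp2.mp hu2
        have hca : H.h (b + v + u) a = 1 := by
          rw [H.add_left, H.add_left, hb1, H.eq_zero_symm hav, hua, add_zero, add_zero]
        refine ⟨b + v + u, fun e0 => ?_, ?_, by rw [hca]; exact one_ne_zero, ?_⟩
        · rw [e0, H.zero_left] at hca; exact zero_ne_one hca
        · simp only [H.add_left, H.add_right, hbb, hbv, H.eq_zero_symm hbv, hub, H.eq_zero_symm hub, huv,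
            H.eq_zero_symm huv, huu, T.zed.unit]
          linear_combination hq.two
        · rw [H.add_left, H.add_left, hbv, T.zed.unit, huv, zero_add, add_zero]; exact one_ne_zero
      · refine ⟨b, fun e0 => ?_, hbb, by rw [hb1]; exact one_ne_zero, hbv⟩
        rw [e0, H.zero_left] at hb1; exact zero_ne_one hb1
    obtain ⟨y, hy, ey⟩ := T.quot.lift hc0 hcc
    have hny : ¬ Commute (ψ d) (ψ y) := by rw [ea, ey]; exact not_commute_tv hq hc0 ha hcc hca
    have hf := T.quot.sandwich hy hd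
    set f := y * d * y with hfdef
    set fv := a + H.h a c • c with hfv
    have ef : ψ f = tv hq fv := by
      rw [hfdef, map_mul, map_mul, ea, ey, hfv, ← tv_apply hq hcc a, ← tv_conj hq _ ha, tv_inv hq hcc]
    have hac : H.h a c ≠ 0 := fun e0 => hca (H.eq_zero_symm e0)
    have hfvv : H.h fv v ≠ 0 := by
      rw [hfv, H.add_left, hav, zero_add, H.smul_left]; exact mul_ne_zero hac hcv
    have hfv0 : fv ≠ 0 := fun e0 => hfvv (by rw [e0, H.zero_left])
    have hfvi : H.h fv fv = 0 := by rw [hfv, ← tv_apply hq hcc a, H.map_form, ha]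
    have hof : ¬ Commute (ψ f) (ψ z) := fun h => hfvv ((T.vec hf hfv0 hfvi ef).mp h)
    set γ := y * δ * y with hγdef
    have hγ : γ ∈ block ψ D f := by
      have : γ = f * (y * d' * y) := by
        show y * (d * d') * y = y * d * y * (y * d' * y)
        simp only [mul_assoc, T.quot.self_cancel hy]
      rw [this]
      exact T.quot.mul_mem_block (T.quot.sandwich hy hd') (by simp only [hfdef, map_mul, e])
    have hγk := T.quot.block_le_ker hf hγ
    have htr := T.quot.trace hd hy hny hδ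
    have h1 : d * γ * d * γ = δ := by
      rw [← htr, hγdef]; simp only [mul_assoc]
    have hcb := T.conj_block hf hof hγ
    have hf1 := T.quot.conj_mem hf z
    have htf := T.quot.trace hf hf1 (T.not_commute_conj hf hof) hγ
    set f₁ := z * f * z⁻¹ with hf₁
    have hη : γ * (z * γ * z⁻¹) = f₁ * γ * f₁ := by
      have mk : f₁ * γ * f₁ ∈ ψ.ker := by
        simpa [T.quot.inv_self hf1] using ψ.normal_ker.conj_mem γ hγk f₁
      rw [← hcb] at htf
      calc γ * (z * γ * z⁻¹) = (z * γ * z⁻¹) * ((f₁ * γ * f₁) * (z * γ * z⁻¹)) := by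
            conv_lhs => enter [1]; rw [← htf]
            rw [mul_assoc]
        _ = (z * γ * z⁻¹) * ((z * γ * z⁻¹) * (f₁ * γ * f₁)) := by
            rw [(T.quot.ker_comm mk (ψ.normal_ker.conj_mem γ hγk z)).eq]
        _ = f₁ * γ * f₁ := by
            rw [← mul_assoc, T.quot.ker_sq (ψ.normal_ker.conj_mem γ hγk z), one_mul]
    have hγz := ψ.normal_ker.conj_mem γ hγk z
    have h2 : d * (z * γ * z⁻¹) * d * (z * γ * z⁻¹) = δ := by
      calc d * (z * γ * z⁻¹) * d * (z * γ * z⁻¹)
          = (z * d * z⁻¹) * (z * γ * z⁻¹) * (z * d * z⁻¹) * (z * γ * z⁻¹) := by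
            rw [show z * d * z⁻¹ = d by rw [← hz.eq, mul_inv_cancel_right]]
        _ = z * (d * γ * d * γ) * z⁻¹ := by group
        _ = δ := by rw [h1, hδz.eq, mul_inv_cancel_right]
    have hfix : d * (f₁ * γ * f₁) * d = f₁ * γ * f₁ := by
      rw [← hη]
      have k1 : d * γ * d = δ * γ := by
        rw [← h1, mul_assoc _ γ γ, T.quot.ker_sq hγk, mul_one]
      have k2 : d * (z * γ * z⁻¹) * d = δ * (z * γ * z⁻¹) := by
        rw [← h2, mul_assoc _ (z * γ * z⁻¹) (z * γ * z⁻¹), T.quot.ker_sq hγz, mul_one]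
      calc d * (γ * (z * γ * z⁻¹)) * d = (d * γ * d) * (d * (z * γ * z⁻¹) * d) := by
            simp only [mul_assoc, T.quot.self_cancel hd]
        _ = δ * γ * (δ * (z * γ * z⁻¹)) := by rw [k1, k2]
        _ = δ * δ * (γ * (z * γ * z⁻¹)) := by
            rw [mul_assoc δ γ, ← mul_assoc γ δ, (T.quot.ker_comm hγk (T.quot.block_le_ker hd hδ)).eq]
            group
        _ = _ := by rw [T.quot.ker_sq (T.quot.block_le_ker hd hδ), one_mul]
    have hf2 : f₁ * f * f₁ ∈ D := T.quot.sandwich hf1 hf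
    have hη2 : f₁ * γ * f₁ ∈ block ψ D (f₁ * f * f₁) := by
      have : f₁ * γ * f₁ = (f₁ * f * f₁) * (f₁ * (y * d' * y) * f₁) := by
        rw [hγdef, show δ = d * d' from rfl, hfdef]
        simp only [mul_assoc, T.quot.self_cancel hf1, T.quot.self_cancel hy]
      rw [this]
      exact T.quot.mul_mem_block (T.quot.sandwich hf1 (T.quot.sandwich hy hd'))
        (by simp only [map_mul, hfdef, e])
    have hv2 : ψ (f₁ * f * f₁) = tv hq ((ψ z).1.1 ((ψ z).1.1 fv)) := by
      have ht := T.target_image hf hof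
      rw [← hf₁] at ht
      have hb' : f * f₁ * f = f₁ * f * f₁ :=
        T.quot.braid hf hf1 (Quot.not_commute_of_image T.quot (T.not_commute_conj hf hof))
      rw [← hb']
      have hz3 : ψ z * ψ z * ψ z = 1 := by rw [← map_mul, ← map_mul, T.cube, map_one]
      have e2 : tv hq ((ψ z).1.1 ((ψ z).1.1 fv)) = (ψ z * ψ z) * ψ f * (ψ z * ψ z)⁻¹ := by
        rw [ef, tv_conj hq _ hfvi]; rfl
      rw [map_mul, map_mul, map_inv] at ht
      rw [e2, inv_eq_of_mul_eq_one_right hz3]
      conv_rhs => rw [← ht]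
      calc ψ (f * f₁ * f) = (ψ z * ψ z * ψ z) * ψ (f * f₁ * f) * ((ψ z)⁻¹ * ψ z) := by
            rw [hz3, inv_mul_cancel, one_mul, mul_one]
        _ = _ := by group
    have hnd : ¬ Commute (ψ (f₁ * f * f₁)) (ψ d) := by
      rw [hv2, ea]
      refine not_commute_tv hq ha0 (by rw [H.map_form, H.map_form, hfvi]) ha ?_
      have hz3 : ∀ x, (ψ z).1.1 ((ψ z).1.1 ((ψ z).1.1 x)) = x := fun x => by
        rw [← H.smul_mul_apply, ← H.smul_mul_apply, ← map_mul, ← map_mul, T.cube, map_one]; rfl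
      rw [← H.map_form (ψ z).1, hz3, T.zed.apply_perp hq hav, H.smul_left, hfv, H.add_right, ha, zero_add,
        H.smul_right]
      exact mul_ne_zero T.zed.omega.ne_zero (mul_ne_zero (fun h0 => hac (H.conj.eq_zero.mp h0)) hac)
    have hη1 := T.quot.free hf2 hd hnd hη2 (by
      have e0 : d * (f₁ * γ * f₁) * d⁻¹ = f₁ * γ * f₁ := by rw [T.quot.inv_self hd]; exact hfix
      exact mul_inv_eq_iff_eq_mul.mp e0)
    have hγ1 : γ = 1 := by
      calc γ = f₁ * (f₁ * γ * f₁) * f₁ := by
            simp only [mul_assoc, T.quot.self_cancel hf1, T.quot.sq_one hf1, mul_one]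
        _ = 1 := by rw [hη1, mul_one, T.quot.sq_one hf1]
    rw [← h1, hγ1, mul_one, mul_one, T.quot.sq_one hd]
  · have ho' : ¬ Commute (ψ d') (ψ z) := e ▸ hi
    rw [g.2 hi, g'.2 ho', T.indep hd hd' e hi]

theorem exists_good {c : V} (hc0 : c ≠ 0) (hc : H.h c c = 0) : ∃ d ∈ D, ψ d = tv hq c ∧ Good ψ z d := by
  obtain ⟨d, hd, e⟩ := T.quot.lift hc0 hc
  have hd1 := T.quot.conj_mem hd z
  by_cases hi : Commute (ψ d) (ψ z)
  · set d₁ := z * d * z⁻¹ with hd₁
    set d₂ := z * d₁ * z⁻¹ with hd₂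
    have hd2 : d₂ ∈ D := T.quot.conj_mem hd1 z
    have e1 : ψ d₁ = ψ d := by rw [hd₁, map_mul, map_mul, map_inv, ← hi.eq, mul_inv_cancel_right]
    have e2 : ψ d₂ = ψ d := by rw [hd₂, map_mul, map_mul, map_inv, e1, ← hi.eq, mul_inv_cancel_right]
    have hs : ψ (d * d₁ * d₂) = ψ d := by
      rw [map_mul, map_mul, e1, e2, ← map_mul, T.quot.sq_one hd, map_one, one_mul]
    refine ⟨d * d₁ * d₂, T.quot.three hd hd1 hd2 e1 e2, hs.trans e, fun _ => ?_, fun h => absurd (hs ▸ hi) h⟩
    have h3 : z * d₂ * z⁻¹ = d := by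
      rw [hd₂, hd₁, show z * (z * (z * d * z⁻¹) * z⁻¹) * z⁻¹ = (z * z * z) * d * (z * z * z)⁻¹ by group,
        T.cube, inv_one, one_mul, mul_one]
    have c01 : Commute d d₁ := T.quot.commute_lift hd hd1 (e1 ▸ Commute.refl _)
    have c02 : Commute d d₂ := T.quot.commute_lift hd hd2 (e2 ▸ Commute.refl _)
    have hfix : z * (d * d₁ * d₂) * z⁻¹ = d * d₁ * d₂ := by
      calc z * (d * d₁ * d₂) * z⁻¹ = (z * d * z⁻¹) * (z * d₁ * z⁻¹) * (z * d₂ * z⁻¹) := by group
        _ = d₁ * d₂ * d := by rw [← hd₁, ← hd₂, h3]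
        _ = d * d₁ * d₂ := by rw [mul_assoc d₁, ← c02.eq, ← mul_assoc, ← c01.eq]
    exact (mul_inv_eq_iff_eq_mul.mp hfix).symm
  · have hs := T.target_image hd hi
    set s := z * (d * (z * d * z⁻¹) * d) * z⁻¹ with hsdef
    have hsD : s ∈ D := T.quot.conj_mem (T.quot.sandwich hd hd1) z
    refine ⟨s, hsD, hs.trans e, fun h => absurd (hs ▸ h) hi, fun _ => ?_⟩
    conv_rhs => rw [T.indep hd hsD hs hi]

omit [Finite G] in
theorem good_conj {d g : G} (hg : Commute g z) (h : Good ψ z d) : Good ψ z (g * d * g⁻¹) := by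
  have hz : z = g * z * g⁻¹ := by rw [hg.eq, mul_inv_cancel_right]
  have hiff : Commute (ψ (g * d * g⁻¹)) (ψ z) ↔ Commute (ψ d) (ψ z) := by
    constructor <;> intro hc
    · have := hc.map (MulAut.conj (ψ g)⁻¹).toMonoidHom
      have hz' : g⁻¹ * z * g = z := by rw [mul_assoc, ← hg.eq, inv_mul_cancel_left]
      simpa [mul_assoc, ← map_inv, ← map_mul, hz'] using (show Commute ((ψ g)⁻¹ * ψ (g * d * g⁻¹) * ψ g)
        ((ψ g)⁻¹ * ψ z * ψ g) by simpa using this)
    · have := hc.map (MulAut.conj (ψ g)).toMonoidHom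
      have : Commute (ψ g * ψ d * (ψ g)⁻¹) (ψ g * ψ z * (ψ g)⁻¹) := this
      rw [← map_inv, ← map_mul, ← map_mul, ← map_mul, ← map_mul, ← hz] at this
      exact this
  refine ⟨fun hi => ?_, fun ho => ?_⟩
  · have := (h.1 (hiff.mp hi)).map (MulAut.conj g).toMonoidHom
    have : Commute (g * d * g⁻¹) (g * z * g⁻¹) := this
    rwa [← hz] at this
  · conv_lhs => rw [h.2 (fun hc => ho (hiff.mpr hc))]
    conv_rhs => rw [hz]
    group

theorem commute_of_good {d e : G} (hd : d ∈ D) (he : e ∈ D) (h : Commute (ψ d) (ψ e)) :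
    e * d * e = d := by
  rw [← (T.quot.commute_lift hd he h).eq, mul_assoc, T.quot.sq_one he, mul_one]

theorem good_core {d e : G} (hd : d ∈ D) (gd : Good ψ z d) (he : e ∈ D) (ge : Good ψ z e)
    (h : ¬ Commute (ψ d) (ψ e)) (hi : Commute (ψ (e * d * e)) (ψ z)) : Good ψ z (e * d * e) := by
  obtain ⟨c, hc0, hc, ec⟩ := T.quot.image (T.quot.sandwich he hd)
  obtain ⟨f, hf, ef, gf⟩ := T.exists_good hc0 hc
  have efe : ψ f = ψ (e * d * e) := ef.trans ec.symm
  have hfz : Commute f z := gf.1 (efe ▸ hi)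
  have bde := T.quot.braid hd he (Quot.not_commute_of_image T.quot h)
  have hgf : Good ψ z (f * e * f) := by
    have := T.good_conj hfz ge
    rwa [T.quot.inv_self hf] at this
  have himg : ψ (f * e * f) = ψ d := by
    rw [map_mul, map_mul, efe, ← map_mul, ← map_mul]
    congr 1
    calc e * d * e * e * (e * d * e) = e * d * (e * e) * e * d * e := by group
      _ = e * (d * e * d) * e := by rw [T.quot.sq_one he, mul_one]; group
      _ = e * (e * d * e) * e := by rw [bde]
      _ = d := by simp only [mul_assoc, T.quot.self_cancel he, T.quot.sq_one he, mul_one]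
  have hdf := T.good_unique hd (T.quot.sandwich hf he) himg gd hgf
  have hnc : ¬ Commute f e := by
    intro hc'
    apply h
    have := (hc'.map ψ)
    have hde : ψ d = ψ e := by
      rw [← himg, map_mul, map_mul, this.eq, mul_assoc, ← map_mul, T.quot.sq_one hf, map_one, mul_one]
    rw [hde]
  have bfe := T.quot.braid hf he hnc
  have : e * d * e = f := by
    calc e * d * e = e * (e * f * e) * e := by rw [hdf, bfe]
      _ = f := by simp only [mul_assoc, T.quot.self_cancel he, T.quot.sq_one he, mul_one]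
  rw [this]; exact gf

/-- Good members conjugate members fixed by `z` to good members. -/
theorem good_sandwich_inner {d e : G} (hd : d ∈ D) (gd : Good ψ z d) (he : e ∈ D) (ge : Good ψ z e)
    (hi : Commute (ψ d) (ψ z)) : Good ψ z (e * d * e) := by
  by_cases h : Commute (ψ d) (ψ e)
  · rwa [T.commute_of_good hd he h]
  · rw [T.quot.braid he hd (fun c => h (c.map ψ).symm)]
    have := T.good_conj (gd.1 hi) ge
    rwa [T.quot.inv_self hd] at this

theorem good_sandwich {d e : G} (hd : d ∈ D) (gd : Good ψ z d) (he : e ∈ D) (ge : Good ψ z e) :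
    Good ψ z (e * d * e) := by
  by_cases hei : Commute (ψ e) (ψ z)
  · have := T.good_conj (ge.1 hei) gd
    rwa [T.quot.inv_self he] at this
  by_cases hdi : Commute (ψ d) (ψ z)
  · exact T.good_sandwich_inner hd gd he ge hdi
  obtain ⟨c₀, hc00, hc0c, ec⟩ := T.quot.image hd
  obtain ⟨e₀, he00, he0e, ee⟩ := T.quot.image he
  have hcv : H.h c₀ v ≠ 0 := fun h => hdi ((T.vec hd hc00 hc0c ec).mpr h)
  have hev : H.h e₀ v ≠ 0 := fun h => hei ((T.vec he he00 he0e ee).mpr h)
  set c := H.σ (H.h c₀ v) • c₀ with hcd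
  set w := H.σ (H.h e₀ v) • e₀ with hwd
  have hcv0 : H.σ (H.h c₀ v) ≠ 0 := fun e0 => hcv (H.conj.eq_zero.mp e0)
  have hev0 : H.σ (H.h e₀ v) ≠ 0 := fun e0 => hev (H.conj.eq_zero.mp e0)
  have hc : H.h c c = 0 := by rw [hcd, hq.h_smul_smul hcv0, hc0c]
  have hw : H.h w w = 0 := by rw [hwd, hq.h_smul_smul hev0, he0e]
  have hc1 : H.h c v = 1 := by rw [hcd, H.smul_left, hq.norm_flip hcv]
  have hw1 : H.h w v = 1 := by rw [hwd, H.smul_left, hq.norm_flip hev]
  rw [← tv_smul hq hc0c hcv0, ← hcd] at ec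
  rw [← tv_smul hq he0e hev0, ← hwd] at ee
  clear_value c w
  obtain ⟨f₀, hf0, hff, hfv, hswitch⟩ := exists_switch hq T.dim T.zed.unit hw hc1 hw1
  obtain ⟨f, hf, ef, gf⟩ := T.exists_good hf0 hff
  have hfi : Commute (ψ f) (ψ z) := (T.vec hf hf0 hff ef).mpr hfv
  set x := f * d * f with hx
  have hxD : x ∈ D := T.quot.sandwich hf hd
  have gx : Good ψ z x := by
    have := T.good_conj (gf.1 hfi) gd
    rwa [T.quot.inv_self hf] at this
  set xv := c + H.h c f₀ • f₀ with hxv
  have ex : ψ x = tv hq xv := by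
    rw [hx, map_mul, map_mul, ef, ec, hxv, ← tv_apply hq hff c, ← tv_conj hq _ hc, tv_inv hq hff]
  have hxvi : H.h xv xv = 0 := by rw [hxv, ← tv_apply hq hff c, H.map_form, hc]
  have hxvv : H.h xv v = 1 := by rw [hxv, H.add_left, H.smul_left, hfv, mul_zero, add_zero, hc1]
  clear_value xv
  have hw0 : w ≠ 0 := fun e0 => by rw [e0, H.zero_left] at hw1; exact zero_ne_one hw1
  have hnc : ¬ Commute (ψ x) (ψ e) := by
    rw [ex, ee]
    exact not_commute_tv hq hw0 hxvi hw (fun h0 => one_ne_zero ((hswitch.symm).trans (H.eq_zero_symm h0)))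
  have hthird : ψ (e * x * e) = tv hq (xv + w) := by
    rw [map_mul, map_mul, ee, ex, tv_third hq hw hxvi hswitch]
  have hxw0 : xv + w ≠ 0 := fun e0 => by
    rw [hq.eq_of_vadd e0, hw] at hswitch; exact zero_ne_one hswitch
  have hxwi : H.h (xv + w) (xv + w) = 0 := by
    have hwx : H.h w xv = 1 := by rw [H.symm, hswitch, map_one]
    rw [H.add_left, H.add_right, H.add_right, hxvi, hw, hswitch, hwx]; linear_combination hq.two
  have hqi : Commute (ψ (e * x * e)) (ψ z) :=
    (T.vec (T.quot.sandwich he hxD) hxw0 hxwi hthird).mpr (by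
      rw [H.add_left, hxvv, hw1]; exact hq.add_self 1)
  have gq := T.good_core hxD gx he ge hnc hqi
  have gg := T.good_sandwich_inner hf gf he ge hfi
  have := T.good_sandwich_inner (T.quot.sandwich he hxD) gq (T.quot.sandwich he hf) gg hqi
  have e1 : e * f * e * (e * x * e) * (e * f * e) = e * d * e := by
    simp only [hx, mul_assoc, T.quot.self_cancel he, T.quot.self_cancel hf]
  rwa [e1] at this

/-- The good members generate a complement to the kernel. -/
theorem isComplement : ∃ K : Subgroup G, (ψ.ker).IsComplement' K := by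
  classical
  set E : Set G := {d ∈ D | Good ψ z d} with hE
  set K := closure E
  refine ⟨K, Subgroup.isComplement'_of_disjoint_and_mul_eq_univ ?_ ?_⟩
  · have hnorm : ∀ g ∈ K, ∀ d ∈ E, g * d * g⁻¹ ∈ E := by
      intro g hg
      have key : ∀ g ∈ K, ∀ d ∈ E, g * d * g⁻¹ ∈ E ∧ g⁻¹ * d * g ∈ E := by
        intro g hg
        induction hg using closure_induction with
        | mem e he =>
          intro d hd
          have h1 : e * d * e ∈ E := ⟨T.quot.sandwich he.1 hd.1, T.good_sandwich hd.1 hd.2 he.1 he.2⟩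
          rw [T.quot.inv_self he.1]
          exact ⟨h1, h1⟩
        | one => intro d hd; simpa using hd
        | mul u w _ _ hu hw =>
          intro d hd
          constructor
          · rw [show u * w * d * (u * w)⁻¹ = u * (w * d * w⁻¹) * u⁻¹ by group]
            exact (hu _ (hw d hd).1).1
          · rw [show (u * w)⁻¹ * d * (u * w) = w⁻¹ * (u⁻¹ * d * u) * w by group]
            exact (hw _ (hu d hd).2).2
        | inv u _ hu =>
          intro d hd
          rw [inv_inv]
          exact ⟨(hu d hd).2, (hu d hd).1⟩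
      exact fun d hd => (key g hg d hd).1
    rw [disjoint_iff, eq_bot_iff]
    rintro q ⟨hq', hqK⟩
    have hfix : ∀ d ∈ E, q * d * q⁻¹ = d := fun d hd => by
      have hm := hnorm q hqK d hd
      refine T.good_unique hm.1 hd.1 ?_ hm.2 hd.2
      rw [map_mul, map_mul, map_inv, MonoidHom.mem_ker.mp hq', inv_one, one_mul, mul_one]
    have hK : ∀ g ∈ K, Commute q g := fun g hg => by
      induction hg using closure_induction with
      | mem d hd => exact mul_inv_eq_iff_eq_mul.mp (hfix d hd)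
      | one => exact Commute.one_right q
      | mul _ _ _ _ u w => exact u.mul_right w
      | inv _ _ u => exact u.inv_right
    have hcen : q ∈ center G := by
      refine mem_center_iff.mpr fun g => ?_
      have hg : g ∈ closure D := T.quot.cls.2.2 ▸ mem_top g
      induction hg using closure_induction with
      | mem d hd =>
        obtain ⟨c, hc0, hc, e⟩ := T.quot.image hd
        obtain ⟨d', hd', e', g'⟩ := T.exists_good hc0 hc
        have h1 : Commute q d' := hK d' (subset_closure ⟨hd', g'⟩)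
        have h2 : Commute q (d' * d) := T.quot.ker_comm hq' (by
          rw [MonoidHom.mem_ker, map_mul, e', ← e, ← map_mul, T.quot.sq_one hd, map_one])
        have h3 := h1.mul_right h2
        rw [T.quot.self_cancel hd'] at h3
        exact h3.eq.symm
      | one => rw [one_mul, mul_one]
      | mul u w _ _ hu hw => rw [mul_assoc, hw, ← mul_assoc, hu, mul_assoc]
      | inv u _ hu => exact (Commute.inv_left (show Commute u q from hu)).eq
    rw [T.quot.trivialCenter] at hcen
    exact hcen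
  · have hmap : K.map ψ = ⊤ := by
      rw [eq_top_iff]
      rintro y -
      obtain ⟨g, rfl⟩ := T.quot.surj y
      have hg : g ∈ closure D := T.quot.cls.2.2 ▸ mem_top g
      induction hg using closure_induction with
      | mem d hd =>
        obtain ⟨c, hc0, hc, e⟩ := T.quot.image hd
        obtain ⟨d', hd', e', g'⟩ := T.exists_good hc0 hc
        exact ⟨d', subset_closure ⟨hd', g'⟩, e'.trans e.symm⟩
      | one => rw [map_one]; exact one_mem _
      | mul _ _ _ _ u w => rw [map_mul]; exact mul_mem u w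
      | inv _ _ u => rw [map_inv]; exact inv_mem u
    refine Set.eq_univ_of_forall fun g => Set.mem_mul.mpr ?_
    obtain ⟨k, hk, ek⟩ : ψ g ∈ K.map ψ := hmap ▸ mem_top _
    exact ⟨g * k⁻¹, by rw [SetLike.mem_coe, MonoidHom.mem_ker, map_mul, map_inv, ek, mul_inv_cancel],
      k, hk, inv_mul_cancel_right g k⟩

end Pivot

theorem Quot.exists_complement (P : Quot hq ψ D) (hd : Module.finrank F V = 5) :
    ∃ K : Subgroup G, (ψ.ker).IsComplement' K := by
  obtain ⟨ω, v, z₀, Z⟩ := exists_zed hq hd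
  obtain ⟨g, hg⟩ := P.surj z₀
  have h3 : z₀ ^ 3 = 1 := Z.pow_three hq
  have hk : g ^ 3 ∈ ψ.ker := by rw [MonoidHom.mem_ker, map_pow, hg, h3]
  have h6 : g ^ 3 * g ^ 3 = 1 := P.ker_sq hk
  have T : Pivot hq ψ D ω v (g ^ 4) := by
    refine ⟨P, hd, ?_, ?_⟩
    · rw [map_pow, hg, pow_succ, h3, one_mul]; exact Z
    · calc g ^ 4 * g ^ 4 * g ^ 4 = (g ^ 3 * g ^ 3) * (g ^ 3 * g ^ 3) := by simp only [← pow_add]
        _ = 1 := by rw [h6, one_mul]
  exact T.isComplement

end Cfsg.Lib.TTUnitary
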